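import Mathlib
import Cfsg.Agent.KFacts.RgdOpp
import Cfsg.Agent.H945.Chev_m3
import Cfsg.Agent.H161.TwoUnip
import Cfsg.Agent.KFacts.RgdChevCoord
import Cfsg.Agent.TitsThree.KExcRT
import Cfsg.Agent.AGraded.Hom
import Cfsg.Agent.H135.KTwoB
import Cfsg.Agent.KFacts.RgdCent
import Cfsg.Agent.LieClassical.SLGen
import Cfsg.Agent.TitsThree.RTFast
import Cfsg.Agent.Prune
set_option linter.all false
prune_inst 0x7ffcbdf9afb8b1dfdfff7e77f6dfcffc39915fffa6dffd4b7fe0e1ff2b9f23080dc56b8d0df010fe0fd7e01410b87853fb7eaffeea29dc7ffffd5ff41ffbee0fa5e7b508519c88b40f300fff03f07f8e7f3fffffffffffffffffffffffffffbeffbdffffffff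
open scoped Cfsg.Agent.FastGrp

namespace Cfsg.Agent.H90F

end Cfsg.Agent.H90F
attribute [local instance] Cfsg.Agent.TitsThree.RTFast.decRTb Cfsg.Agent.TitsThree.RTFast.decRTc

-- part: H155/TG/Basic
section
/-!
# Simple coordinates of a root group datum (helper155)

* `Par cs X x` : `x i : F → X (sr i)` is a parametrisation;
* `Cf cs h X x i u s` : `u ∈ Q_i * x i s`, `Q_i` the join of the positive root groups other than `X (sr i)`;
  existence, uniqueness, products, conjugates;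
* `norm_neg` : `X (-sr i)` normalises `Q_i`.
-/

set_option autoImplicit false
set_option linter.unusedSectionVars false

namespace Cfsg.Agent.H155.TG

open CoxeterSystem Cfsg.Agent.ChevalleyStructure.CoxeterGeom Cfsg.Agent.Tits.Roots Cfsg.Agent.Tits.Core
  Cfsg.Agent.Tits.Exchange Cfsg.Agent.Nodes.Reps Cfsg.Agent.Nodes.BNOf Cfsg.Agent.Nodes.StabComb
  Cfsg.Agent.Nodes.Bruhat Cfsg.Agent.Nodes.OppDec Cfsg.Agent.Nodes.LeviDec Cfsg.Agent.Nodes.NormalForm
  Cfsg.Agent.KFacts.RgdOpp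
open scoped commutatorElement

variable {I W Y : Type*} [Fintype I] [DecidableEq I] [Group W] [Group Y] {M : CoxeterMatrix I}
  {cs : CoxeterSystem M W} {A : I → I → ℤ} {h : IsCartan M A} {p : ℕ} {T : Subgroup Y} {n : I → Y}
  {X : (I → ℤ) → Subgroup Y} {F : Type*} [Field F] {x : I → F → Y}

/-- The simple root groups are parametrised by `F`. -/
structure Par (X : (I → ℤ) → Subgroup Y) (x : I → F → Y) : Prop where
  mem : ∀ i u, u ∈ X (sr i) ↔ ∃ s, x i s = u
  add : ∀ i s t, x i (s + t) = x i s * x i t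
  inj : ∀ i s, x i s = 1 → s = 0

theorem Par.zero (P : Par X x) (i : I) : x i 0 = 1 := by
  have := P.add i 0 0
  rwa [add_zero, left_eq_mul] at this

theorem Par.neg (P : Par X x) (i : I) (s : F) : x i (-s) = (x i s)⁻¹ := by
  rw [eq_inv_iff_mul_eq_one, ← P.add, neg_add_cancel, P.zero]

/-- the positive root groups other than `X (sr i)` -/
abbrev QQ (cs : CoxeterSystem M W) (h : IsCartan M A) (X : (I → ℤ) → Subgroup Y) (i : I) : Subgroup Y :=
  RGD.Sup X (RGD.PosNe cs h i)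

/-- `u ∈ Q_i x_i(s)` -/
def Cf (cs : CoxeterSystem M W) (h : IsCartan M A) (X : (I → ℤ) → Subgroup Y) (x : I → F → Y) (i : I) (u : Y)
    (s : F) : Prop := ∃ q ∈ QQ cs h X i, u = q * x i s

section

variable (R : RGD cs h p T n X) (P : Par X x)

include R

include P

omit R
include R

end

end Cfsg.Agent.H155.TG
end

-- part: H155/TG/Moves
section
/-!
# Field coordinates of the simple root groups and the two moves (helper155)

* `FD` : parametrisations `x i`, `y i` of `X (sr i)`, `X (-sr i)`, coroot elements `hh i c`, characters `χ i`,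
  the rank one relation, and the polynomial dependence `poly`;
* `St g t a b` : `g` is conjugate to `v t u`, `v ∈ U⁻`, `u ∈ U`, with simple coefficients `a`, `b`;
* `xmove`, `ymove` : conjugation by `x k s`, `y k r`.
-/

set_option autoImplicit false
set_option linter.unusedSectionVars false

namespace Cfsg.Agent.H155.TG

open CoxeterSystem Cfsg.Agent.ChevalleyStructure.CoxeterGeom Cfsg.Agent.Tits.Roots Cfsg.Agent.Tits.Core
  Cfsg.Agent.Tits.Exchange Cfsg.Agent.Nodes.Reps Cfsg.Agent.Nodes.BNOf Cfsg.Agent.Nodes.StabComb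
  Cfsg.Agent.Nodes.Bruhat Cfsg.Agent.Nodes.OppDec Cfsg.Agent.Nodes.LeviDec Cfsg.Agent.Nodes.NormalForm
  Cfsg.Agent.KFacts.RgdOpp
open scoped commutatorElement

variable {I W Y : Type*} [Fintype I] [DecidableEq I] [Group W] [Group Y] {M : CoxeterMatrix I}
  {cs : CoxeterSystem M W} {A : I → I → ℤ} {h : IsCartan M A} {p : ℕ} {T : Subgroup Y} {n : I → Y}
  {X : (I → ℤ) → Subgroup Y} {F : Type*} [Field F] {x y hh : I → F → Y} {χ : I → Y → F} {D : I → I → ℕ}

/-- Field coordinates of the simple root groups. -/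
structure FD (cs : CoxeterSystem M W) (h : IsCartan M A) (T : Subgroup Y) (X : (I → ℤ) → Subgroup Y)
    (x y hh : I → F → Y) (χ : I → Y → F) (D : I → I → ℕ) : Prop where
  px : Par X x
  py : Par (fun r => X (-r)) y
  rank1 : ∀ i a b, 1 + b * a ≠ 0 →
    x i b * y i a = y i (a / (1 + b * a)) * hh i (1 + b * a) * x i (b / (1 + b * a))
  hmem : ∀ i c, c ≠ 0 → hh i c ∈ T
  hmul : ∀ i c d, c ≠ 0 → d ≠ 0 → hh i (c * d) = hh i c * hh i d
  chi0 : ∀ i, ∀ t ∈ T, χ i t ≠ 0
  tx : ∀ i, ∀ t ∈ T, ∀ s, t * x i s * t⁻¹ = x i (χ i t * s)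
  ty : ∀ i, ∀ t ∈ T, ∀ s, t * y i s * t⁻¹ = y i ((χ i t)⁻¹ * s)
  chd : ∀ i c, c ≠ 0 → χ i (hh i c) = c ^ 2
  chn : ∀ i j, i ≠ j → M i j ≠ 2 → ∃ m : ℕ, 1 ≤ m ∧ m ≤ 3 ∧ ∀ c, c ≠ 0 → χ j (hh i c) = (c ^ m)⁻¹
  poly : ∀ k j, j ≠ k → ∀ r ∈ RGD.PosNe cs h k, ∀ v ∈ X (-r), ∃ P : Polynomial F, P.natDegree ≤ D k j ∧
    ∀ s, Cf cs h (fun r => X (-r)) y j (x k (-s) * v * x k s) (P.eval s)

section Torus

variable (E : FD cs h T X x y hh χ D)

include E

end Torus

section

variable [Finite W] (R : RGD cs h p T n X) (E : FD cs h T X x y hh χ D)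

include R E

end

end Cfsg.Agent.H155.TG
end

-- part: H155/TG/Grow
section
/-!
# Nonzero coefficients at all nodes, torus part in a Levi subgroup (helper155)

* `start` : from a noncentral rank one part to `a k ≠ 0`;
* `grow`, `all_ne` : conjugates with all `a i ≠ 0`;
* `process` : torus part in `T_S`, `a i ≠ 0` for `i ∈ S₀`.
-/

set_option autoImplicit false
set_option linter.unusedSectionVars false

namespace Cfsg.Agent.H155.TG

open CoxeterSystem Cfsg.Agent.ChevalleyStructure.CoxeterGeom Cfsg.Agent.Tits.Roots Cfsg.Agent.Tits.Core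
  Cfsg.Agent.Tits.Exchange Cfsg.Agent.Nodes.Reps Cfsg.Agent.Nodes.BNOf Cfsg.Agent.Nodes.StabComb
  Cfsg.Agent.Nodes.Bruhat Cfsg.Agent.Nodes.OppDec Cfsg.Agent.Nodes.LeviDec Cfsg.Agent.Nodes.NormalForm
  Cfsg.Agent.KFacts.RgdOpp
open scoped commutatorElement Polynomial

section Poly

variable {F : Type*} [Field F] [Finite F] {I : Type*}

end Poly

variable {I W Y : Type*} [Fintype I] [DecidableEq I] [Group W] [Group Y] {M : CoxeterMatrix I}
  {cs : CoxeterSystem M W} {A : I → I → ℤ} {h : IsCartan M A} {p : ℕ} {T : Subgroup Y} {n : I → Y}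
  {X : (I → ℤ) → Subgroup Y} {F : Type*} [Field F] {x y hh : I → F → Y} {χ : I → Y → F} {D : I → I → ℕ}

section

variable [Finite W] (R : RGD cs h p T n X) (E : FD cs h T X x y hh χ D) [Finite F] (hF : 9 ≤ Nat.card F)

include R E hF

variable (hD : ∀ k, ∑ j ∈ Finset.univ.erase k, D k j ≤ 4)

include hD

end

end Cfsg.Agent.H155.TG
end

-- part: H155/TG/Cell
section
/-!
# Every element has a conjugate in `U⁻ T U`; not all of them with trivial rank one parts (helper155)

* `exists_mul_cell` : `c k ∈ U⁻ T U` for some `c ∈ U`;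
* `exists_conj_cell` : every element has a conjugate in `U⁻ T U`;
* `mem_B_of_all` : if all conjugates of `g` are in `U⁻ T U` then all are in `B`;
* `exists_start` : `g ≠ 1` has a conjugate `v t u` with a nontrivial rank one part.
-/

set_option autoImplicit false
set_option linter.unusedSectionVars false

namespace Cfsg.Agent.H155.TG

open CoxeterSystem Cfsg.Agent.ChevalleyStructure.CoxeterGeom Cfsg.Agent.Tits.Roots Cfsg.Agent.Tits.Core
  Cfsg.Agent.Tits.Exchange Cfsg.Agent.Nodes.Reps Cfsg.Agent.Nodes.BNOf Cfsg.Agent.Nodes.StabComb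
  Cfsg.Agent.Nodes.Bruhat Cfsg.Agent.Nodes.OppDec Cfsg.Agent.Nodes.LeviDec Cfsg.Agent.Nodes.NormalForm
  Cfsg.Agent.KFacts.RgdOpp
open scoped commutatorElement

variable {I W Y : Type*} [Fintype I] [DecidableEq I] [Group W] [Group Y] {M : CoxeterMatrix I}
  {cs : CoxeterSystem M W} {A : I → I → ℤ} {h : IsCartan M A} {p : ℕ} {T : Subgroup Y} {n : I → Y}
  {X : (I → ℤ) → Subgroup Y}

section

variable [Finite W] (R : RGD cs h p T n X)

include R

end

section

variable {F : Type*} [Field F] {x y hh : I → F → Y} {χ : I → Y → F} {D : I → I → ℕ}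
variable [Finite W] (R : RGD cs h p T n X) (E : FD cs h T X x y hh χ D)

include R E

end

end Cfsg.Agent.H155.TG
end

-- part: H155/TG/Torus
section
/-!
# The torus is generated by the coroot elements (helper155)

* `ll_form` : normal forms in `⟨X (sr i), X (-sr i)⟩`;
* `T_inf_LL` : `T ∩ ⟨X (sr i), X (-sr i)⟩` consists of the `hh i c`;
* `T_le_TS` : `T ≤ TS hh univ`.
-/

set_option autoImplicit false
set_option linter.unusedSectionVars false

namespace Cfsg.Agent.H155.TG

open CoxeterSystem Cfsg.Agent.ChevalleyStructure.CoxeterGeom Cfsg.Agent.Tits.Roots Cfsg.Agent.Tits.Core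
  Cfsg.Agent.Tits.Exchange Cfsg.Agent.Nodes.Reps Cfsg.Agent.Nodes.BNOf Cfsg.Agent.Nodes.StabComb
  Cfsg.Agent.Nodes.Bruhat Cfsg.Agent.Nodes.OppDec Cfsg.Agent.Nodes.LeviDec Cfsg.Agent.Nodes.NormalForm
  Cfsg.Agent.KFacts.RgdOpp Cfsg.Agent.Nodes.FreeTorus
open scoped commutatorElement

variable {I W Y : Type*} [Fintype I] [DecidableEq I] [Group W] [Group Y] {M : CoxeterMatrix I}
  {cs : CoxeterSystem M W} {A : I → I → ℤ} {h : IsCartan M A} {p : ℕ} {T : Subgroup Y} {n : I → Y}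
  {X : (I → ℤ) → Subgroup Y} {F : Type*} [Field F] {x y hh : I → F → Y} {χ : I → Y → F} {D : I → I → ℕ}

section

variable (E : FD cs h T X x y hh χ D)

include E

variable [Finite F] (hF : 9 ≤ Nat.card F)

include hF

end

end Cfsg.Agent.H155.TG
end

-- part: H155/TG/RU
section
/-!
# Regular unipotent matrices (helper155)

`RU F m` : `A ∈ SL_m(F)` with `(A - 1)^m = 0`, `(A - 1)^(m-1) ≠ 0`.

* `exists_conj_RU` : two of them are conjugate by `P D`, `P ∈ SL_m`, `D` diagonal with one entry `≠ 1`;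
* `inv_mem_RU`, `exists_pow_eq_one`;
* `exists_mul_RU` : every nonscalar matrix of determinant one is a product of two of them;
* `prod_upper_mem_RU`, `prod_lower_mem_RU` : products of the simple transvections.
-/

set_option autoImplicit false

namespace Cfsg.Agent.H155.TG

open Matrix

variable {F : Type*} [Field F] {m : ℕ}

/-- regular unipotent elements of `SL_m(F)` -/
def RU (F : Type*) [Field F] (m : ℕ) : Set (Matrix.SpecialLinearGroup (Fin m) F) :=
  {A | ((A : Matrix (Fin m) (Fin m) F) - 1) ^ m = 0 ∧ ((A : Matrix (Fin m) (Fin m) F) - 1) ^ (m - 1) ≠ 0}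

/-- the diagonal matrix with entries `δ, 1, ..., 1` -/
def dgl (m : ℕ) (δ : Fˣ) : GL (Fin m) F where
  val := diagonal fun i => if i.val = 0 then (δ : F) else 1
  inv := diagonal fun i => if i.val = 0 then ((δ⁻¹ : Fˣ) : F) else 1
  val_inv := by
    rw [diagonal_mul_diagonal, ← diagonal_one]
    congr 1
    ext i
    split_ifs <;> simp
  inv_val := by
    rw [diagonal_mul_diagonal, ← diagonal_one]
    congr 1
    ext i
    split_ifs <;> simp

/-! ### Products of simple transvections -/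

end Cfsg.Agent.H155.TG
end

-- part: H155/TG/Asm
section
/-!
# A conjugacy class whose square is the group (helper155)

* `LD` : a homomorphism `φ : SL_m(F) → Y` onto the derived Levi subgroup of `J`, a torus element `e` centralised by it
  and acting without fixed points on the other root groups;
* `main` : the square of the class of `e φ(A)`, `A` regular unipotent, is the group.
-/

set_option autoImplicit false
set_option linter.unusedSectionVars false

namespace Cfsg.Agent.H155.TG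

open CoxeterSystem Cfsg.Agent.ChevalleyStructure.CoxeterGeom Cfsg.Agent.Tits.Roots Cfsg.Agent.Tits.Core
  Cfsg.Agent.Tits.Exchange Cfsg.Agent.Nodes.Reps Cfsg.Agent.Nodes.BNOf Cfsg.Agent.Nodes.StabComb
  Cfsg.Agent.Nodes.Bruhat Cfsg.Agent.Nodes.OppDec Cfsg.Agent.Nodes.LeviDec Cfsg.Agent.Nodes.NormalForm
  Cfsg.Agent.KFacts.RgdOpp Cfsg.Agent.Nodes.FreeTorus
open scoped commutatorElement

variable {I W Y : Type*} [Fintype I] [DecidableEq I] [Group W] [Group Y] {M : CoxeterMatrix I}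
  {cs : CoxeterSystem M W} {A : I → I → ℤ} {h : IsCartan M A} {p : ℕ} {T : Subgroup Y} {n : I → Y}
  {X : (I → ℤ) → Subgroup Y} {F : Type*} [Field F] {x y hh : I → F → Y} {χ : I → Y → F} {D : I → I → ℕ}

/-- The data on the Levi subgroup of `J`. -/
structure LD (cs : CoxeterSystem M W) (h : IsCartan M A) (T : Subgroup Y) (X : (I → ℤ) → Subgroup Y)
    (hh : I → F → Y) (J : Set I) (m : ℕ) (φ : Matrix.SpecialLinearGroup (Fin m) F →* Y) (e : Y) : Prop where
  hm : 1 ≤ m
  hJ : J.Nonempty → 2 ≤ m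
  hJ' : ¬ J.Nonempty → m = 1
  up : ∀ r ∈ PosJ cs h J, ∀ u ∈ X r, ∃ B : Matrix.SpecialLinearGroup (Fin m) F,
    (∀ i j, j < i → B i j = 0) ∧ (∀ i, B i i = 1) ∧ φ B = u
  lo : ∀ r ∈ PosJ cs h J, ∀ u ∈ X (-r), ∃ B : Matrix.SpecialLinearGroup (Fin m) F,
    (∀ i j, i < j → B i j = 0) ∧ (∀ i, B i i = 1) ∧ φ B = u
  di : ∀ j ∈ J, ∀ c, c ≠ 0 → ∃ B : Matrix.SpecialLinearGroup (Fin m) F, (∀ i j, i ≠ j → B i j = 0) ∧ φ B = hh j c
  ran : ∀ B, φ B ∈ LJ cs h T X J
  eT : e ∈ T
  ecomm : ∀ B, e * φ B = φ B * e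
  efix : ∀ r ∈ NotJ cs h J, ∀ u ∈ X r, e * u * e⁻¹ = u → u = 1
  efix' : ∀ r ∈ NotJ cs h J, ∀ u ∈ X (-r), e * u * e⁻¹ = u → u = 1
  tor : ∀ δ : Fˣ, ∃ τ ∈ T, ∀ B C : Matrix.SpecialLinearGroup (Fin m) F,
    (C : Matrix.GeneralLinearGroup (Fin m) F) = dgl m δ * (B : Matrix.GeneralLinearGroup (Fin m) F) * (dgl m δ)⁻¹ →
      τ * φ B * τ⁻¹ = φ C
  real : ∃ n₀, n₀ * e * n₀⁻¹ = e⁻¹ ∧ ∃ B ∈ RU F m, ∃ C ∈ RU F m, n₀ * φ B * n₀⁻¹ = φ C

/-! ### triangular matrices -/

section Tri

variable {m : ℕ}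

end Tri

section

variable [Finite W] [Finite Y] [Finite F]
  {J : Set I} {m : ℕ} {φ : Matrix.SpecialLinearGroup (Fin m) F →* Y} {e : Y}

end

end Cfsg.Agent.H155.TG
end

-- part: H155/TG/SLTwo
section
/-!
# The rank one relation in `SL_2` (helper155)
-/

set_option autoImplicit false

namespace Cfsg.Agent.H155.TG

open Cfsg.Agent.KFacts.RgdChevCoord

variable {K : Type*} [Field K]

/-- the reflection elements -/
def sN (c : K) : Matrix.SpecialLinearGroup (Fin 2) K := sx c * (sy (-c⁻¹) * sx c)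

/-- the diagonal elements -/
def sH (c : K) : Matrix.SpecialLinearGroup (Fin 2) K := sN c * sN (-1)

end Cfsg.Agent.H155.TG
end

-- part: H155/TG/Chev
section
/-!
# Field coordinates of the Chevalley groups of exceptional type (helper155)

`fd` : `FD` for `D.group K`.
-/

set_option autoImplicit false
set_option linter.unusedSectionVars false

namespace Cfsg.Agent.H155.TG

open CoxeterSystem Cfsg.Agent.ChevalleyStructure.CoxeterGeom Cfsg.Agent.Tits.Roots Cfsg.Agent.Tits.Core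
  Cfsg.Agent.Nodes.Reps Cfsg.Agent.Nodes.BNOf
  Cfsg.Agent.Nodes.OppDec Cfsg.Agent.Nodes.RGDChev Cfsg.Agent.KFacts.RgdOpp
  Cfsg.Agent.KFacts.RgdAut Cfsg.Agent.KFacts.RgdDiag Cfsg.Agent.KFacts.RgdRigid
  Cfsg.Agent.KFacts.RgdField Cfsg.Agent.KFacts.RgdTau Cfsg.Agent.KFacts.RgdChevCoord
  Cfsg.Agent.Nodes.FreeTorus
open Cfsg.Lie Cfsg.Agent.ChevalleyStructure Cfsg.Agent.ChevalleyStructure.Elts
  Cfsg.Agent.ChevalleyStructure.RootVec Cfsg.Agent.ChevalleyStructure.RootVecTab
  Cfsg.Agent.ChevalleyStructure.NPerm Cfsg.Agent.ChevalleyStructure.CoxeterGeomTypes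
open scoped commutatorElement

universe u

variable {D : ChevalleyDatum} {l : ℕ} {M : CoxeterMatrix (Fin l)} (hp : IsType D l M) {K : Type u} [Field K]
  {W : Type*} [Group W] (cs : CoxeterSystem M W)

/-- the homomorphisms from `SL_2` -/
theorem exists_phi (i : Fin l) : ∃ φ : Matrix.SpecialLinearGroup (Fin 2) K →* GL D.Idx K,
    (∀ s, φ (sx s) = xG hp.inList (D.simple i) s) ∧ (∀ s, φ (sy s) = xG hp.inList (D.neg (D.simple i)) s) ∧
    ∀ c, φ (sH c) = hG hp.inList (D.simple i) c := by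
  obtain ⟨φ, -, hxy⟩ := Cfsg.Agent.S1030.result (F := K) D hp.inList (D.simple i) (_root_.Cfsg.Agent.ChevalleyStructure.NPerm.simple_lt hp.inList (lt_rank hp i))
  have hsx : ∀ u : K, φ (sx u) = xG hp.inList (D.simple i) u := fun u =>
    Units.ext (by rw [(hxy (sx u) u).1 rfl, coe_xG])
  have hsy : ∀ u : K, φ (sy u) = xG hp.inList (D.neg (D.simple i)) u := fun u =>
    Units.ext (by rw [(hxy (sy u) u).2 rfl, coe_xG])
  refine ⟨φ, hsx, hsy, fun c => ?_⟩
  unfold sH sN
  rw [map_mul, map_mul, map_mul, map_mul, map_mul, hsx, hsy, hsx, hsy, hG_def, nG_def, nG_def]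

/-! ### polynomial dependence -/

section Poly

end Poly

end Cfsg.Agent.H155.TG
end

-- part: H155/TG/ChevLD
section
/-!
# The Levi data of the Chevalley groups of exceptional type from a table (helper155)
-/

set_option autoImplicit false
set_option linter.unusedSectionVars false

namespace Cfsg.Agent.H155.TG

open CoxeterSystem Cfsg.Agent.ChevalleyStructure.CoxeterGeom Cfsg.Agent.Tits.Roots Cfsg.Agent.Tits.Core
  Cfsg.Agent.Nodes.Reps Cfsg.Agent.Nodes.BNOf Cfsg.Agent.Nodes.StabComb Cfsg.Agent.Nodes.Bruhat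
  Cfsg.Agent.Nodes.OppDec Cfsg.Agent.Nodes.RGDChev Cfsg.Agent.KFacts.RgdOpp
  Cfsg.Agent.KFacts.RgdAut Cfsg.Agent.KFacts.RgdDiag Cfsg.Agent.KFacts.RgdRigid
  Cfsg.Agent.KFacts.RgdField Cfsg.Agent.KFacts.RgdTau Cfsg.Agent.KFacts.RgdChevCoord
  Cfsg.Agent.Nodes.FreeTorus
open Cfsg.Lie Cfsg.Agent.ChevalleyStructure Cfsg.Agent.ChevalleyStructure.Elts
  Cfsg.Agent.ChevalleyStructure.RootVec Cfsg.Agent.ChevalleyStructure.RootVecTab
  Cfsg.Agent.ChevalleyStructure.NPerm Cfsg.Agent.ChevalleyStructure.CoxeterGeomTypes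
  Cfsg.Agent.TitsThree.KExcRT
open Matrix Matrix.SpecialLinearGroup
open scoped commutatorElement MatrixGroups

universe u

section Lin

variable {F : Type*} [Field F] {m : ℕ}

/-- a property of the image of a homomorphism from `SL_m` -/
theorem SL_le {Y : Type*} [Group Y] (φ : Matrix.SpecialLinearGroup (Fin m) F →* Y) (H : Subgroup Y)
    (h : ∀ (i j : Fin m) (hij : i ≠ j) (a : F), φ (Matrix.SpecialLinearGroup.transvection hij a) ∈ H) (B) :
    φ B ∈ H := by
  have hB : B ∈ Subgroup.closure (Cfsg.Agent.LieClassical.SLGen.transvections (Fin m) F) := by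
    rw [Cfsg.Agent.LieClassical.SLGen.closure_transvections]
    exact Subgroup.mem_top B
  have h1 : Subgroup.closure (Cfsg.Agent.LieClassical.SLGen.transvections (Fin m) F) ≤ H.comap φ := by
    rw [Subgroup.closure_le]
    rintro _ ⟨i, j, hij, a, rfl⟩
    exact h i j hij a
  exact h1 hB

end Lin

variable {D : ChevalleyDatum} {l : ℕ} {M : CoxeterMatrix (Fin l)} (hp : IsType D l M) {K : Type u} [Field K]
  {W : Type*} [Group W] (cs : CoxeterSystem M W)

/-- the weight of a coroot combination -/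
def wt (D : ChevalleyDatum) {l : ℕ} (lam : Fin l → ℤ) (t : ℕ) : ℤ :=
  ((List.finRange l).map fun i => lam i * D.cartan i t).sum

/-- reflections along a word -/
def actw (D : ChevalleyDatum) {l : ℕ} (w : List (Fin l)) (t : ℕ) : ℕ := w.foldr (fun i t => D.reflectRoot i t) t

/-- the table of a Levi subgroup of type `A_k` -/
structure Tab (D : ChevalleyDatum) (l : ℕ) (J : Finset (Fin l)) (k : ℕ) (r : Fin (k + 1) → Fin (k + 1) → ℕ)
    (s : Fin (k + 1) → Fin (k + 1) → ℤ) (lam mu : Fin l → ℤ) (w : List (Fin l)) (σ : Fin l → Fin l) : Prop where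
  ra : ∀ a b, a ≠ b → r a b < D.nroots
  rd : ∀ a b, s a b * s a b = 1
  s1 : ∀ i : Fin k, s i.castSucc i.succ = 1 ∧ s i.succ i.castSucc = 1
  neg : ∀ a b, a ≠ b → r b a = D.neg (r a b)
  van : ∀ a b, a ≠ b → ∀ i, i ∉ J → _root_.Cfsg.Agent.Nodes.RGDChev.vec D l (r a b) i = 0
  sim : ∀ j ∈ J, ∃ i : Fin k, r i.castSucc i.succ = D.simple j
  all : allLT (fun t => ((List.finRange l).any fun i => decide (_root_.Cfsg.Agent.Nodes.RGDChev.vec D l t i < 0)) ||
    ((List.finRange l).any fun i => decide (i ∉ J) && decide (_root_.Cfsg.Agent.Nodes.RGDChev.vec D l t i ≠ 0)) ||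
    ((List.finRange (k + 1)).any fun a => (List.finRange (k + 1)).any fun b => decide (a < b) && Nat.beq (r a b) t))
    D.nroots = true
  lam0 : ∀ a b, a ≠ b → wt D lam (r a b) = 0
  lam1 : allLT (fun t => ((List.finRange l).any fun i => decide (_root_.Cfsg.Agent.Nodes.RGDChev.vec D l t i < 0)) ||
    ((List.finRange l).all fun i => decide (i ∈ J) || decide (_root_.Cfsg.Agent.Nodes.RGDChev.vec D l t i = 0)) ||
    (decide (0 < wt D lam t) && decide (wt D lam t < 8))) D.nroots = true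
  mu0 : ∀ a b, a ≠ b → wt D mu (r a b) = (if a.val = 0 then 1 else 0) - (if b.val = 0 then 1 else 0)
  w0 : ∀ i : Fin l, actw D w (D.neg (D.simple (σ i))) = D.simple i ∧
    wt D lam (D.neg (D.simple (σ i))) = -wt D lam (D.simple i)
  w1 : ∀ i : Fin k, actw D w (r i.castSucc i.succ) = r i.succ i.castSucc

/-- the torus element of a coroot combination -/
noncomputable def hw (hp : IsType D l M) (lam : Fin l → ℤ) (c : K) : ↥(D.group K) :=
  ((List.finRange l).map fun i => hc hp i (c ^ lam i)).prod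

section Main

variable {J : Finset (Fin l)} {k : ℕ} {r : Fin (k + 1) → Fin (k + 1) → ℕ}
  {s : Fin (k + 1) → Fin (k + 1) → ℤ} {lam mu : Fin l → ℤ} {w : List (Fin l)} {σ : Fin l → Fin l}

end Main

end Cfsg.Agent.H155.TG
end

-- part: H155/TG/ChevTab
section
/-!
# The tables of the exceptional types (helper155)
-/

set_option autoImplicit false

namespace Cfsg.Agent.H155.TG

open Cfsg.Lie Cfsg.Agent.ChevalleyStructure.CoxeterGeomTypes Cfsg.Agent.TitsThree.KExcRT
open Cfsg.Agent.ChevalleyStructure.CoxeterGeom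

/-- connectedness from a path to `0` -/
theorem conn_of_par {l : ℕ} {M : CoxeterMatrix (Fin (l + 1))} (par : Fin (l + 1) → Fin (l + 1)) (n : ℕ)
    (h1 : ∀ i, par^[n] i = 0) (h2 : ∀ i, i ≠ par i → M i (par i) ≠ 2)
    (S : Set (Fin (l + 1))) (hS : S.Nonempty) (hS' : S ≠ Set.univ) : ∃ a ∈ S, ∃ b, b ∉ S ∧ M a b ≠ 2 := by
  classical
  by_contra hc
  push Not at hc
  have key : ∀ i, i ∈ S ↔ par i ∈ S := by
    intro i
    by_cases hi : i = par i
    · rw [← hi]
    constructor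
    · intro h3
      by_contra h4
      exact h2 i hi (hc i h3 _ h4)
    · intro h3
      by_contra h4
      apply h2 i hi
      rw [M.symmetric]
      exact hc _ h3 _ h4
  have key2 : ∀ n i, i ∈ S ↔ par^[n] i ∈ S := by
    intro n
    induction n with
    | zero => intro i; exact Iff.rfl
    | succ n ih =>
      intro i
      rw [Function.iterate_succ_apply, ← ih, ← key]
  obtain ⟨a, ha⟩ := hS
  apply hS'
  rw [Set.eq_univ_iff_forall]
  intro b
  have h3 := (key2 n a).1 ha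
  rw [h1] at h3
  rw [key2 n b, h1]
  exact h3

theorem conn_F4 (S : Set (Fin 4)) (hS : S.Nonempty) (hS' : S ≠ Set.univ) :
    ∃ a ∈ S, ∃ b, b ∉ S ∧ CoxeterMatrix.F₄ a b ≠ 2 :=
  conn_of_par ![0, 0, 1, 2] 3 (by decide) (by decide) S hS hS'

theorem conn_E6 (S : Set (Fin 6)) (hS : S.Nonempty) (hS' : S ≠ Set.univ) :
    ∃ a ∈ S, ∃ b, b ∉ S ∧ CoxeterMatrix.E₆ a b ≠ 2 :=
  conn_of_par ![0, 3, 0, 2, 3, 4] 4 (by decide) (by decide) S hS hS'

theorem conn_E7 (S : Set (Fin 7)) (hS : S.Nonempty) (hS' : S ≠ Set.univ) :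
    ∃ a ∈ S, ∃ b, b ∉ S ∧ CoxeterMatrix.E₇ a b ≠ 2 :=
  conn_of_par ![0, 3, 0, 2, 3, 4, 5] 5 (by decide) (by decide) S hS hS'

theorem conn_E8 (S : Set (Fin 8)) (hS : S.Nonempty) (hS' : S ≠ Set.univ) :
    ∃ a ∈ S, ∃ b, b ∉ S ∧ CoxeterMatrix.E₈ a b ≠ 2 :=
  conn_of_par ![0, 3, 0, 2, 3, 4, 5, 6] 6 (by decide) (by decide) S hS hS'

end Cfsg.Agent.H155.TG
end

private theorem dce_5382b93d753a : _root_.True := by
  try have : _root_.True := by simp only [_root_.Cfsg.Agent.H155.TG.hw.congr_simp]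
  try have : _root_.True := by simp only [_root_.Cfsg.Agent.H155.TG.actw.eq_1]
  exact _root_.True.intro
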